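import Groth.Agent.Lib.ValEtH7.Etale
import Mathlib.RingTheory.RingHom.StandardSmooth
import Mathlib.RingTheory.Smooth.StandardSmoothOfFree
import Mathlib.RingTheory.Smooth.Flat
import Mathlib.RingTheory.Ideal.GoingDown
import Mathlib.RingTheory.Localization.BaseChange

/-! Generic points of special fibres of smooth algebras over valuation rings. -/

set_option autoImplicit false

universe u

open MvPolynomial TensorProduct IsLocalRing

namespace Groth.Agent.ValSmoothH7

variable {V : Type u} [CommRing V] [IsDomain V] [ValuationRing V]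

theorem exists_dvd_all {ι : Type*} (s : Finset ι) (c : ι → V) (hs : s.Nonempty) :
    ∃ i ∈ s, ∀ j ∈ s, c i ∣ c j := by
  classical
  induction hs using Finset.Nonempty.cons_induction with
  | singleton a => exact ⟨a, by simp, by simp⟩
  | cons a t hat ht ih =>
    obtain ⟨i, hi, hdiv⟩ := ih
    rcases ValuationRing.dvd_total (c a) (c i) with h | h
    · refine ⟨a, Finset.mem_cons_self _ _, fun j hj => ?_⟩
      rcases Finset.mem_cons.1 hj with rfl | hj
      · rfl
      · exact h.trans (hdiv j hj)
    · refine ⟨i, Finset.mem_cons_of_mem hi, fun j hj => ?_⟩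
      rcases Finset.mem_cons.1 hj with rfl | hj
      · exact h
      · exact hdiv j hj

theorem exists_content {σ : Type*} (f : MvPolynomial σ V) (hf : f ≠ 0) :
    ∃ (v : V) (g : MvPolynomial σ V), f = C v * g ∧ g ∉ (maximalIdeal V).map (C : V →+* MvPolynomial σ V) := by
  classical
  obtain ⟨i, hi, hdiv⟩ := exists_dvd_all f.support f.coeff (MvPolynomial.support_nonempty.2 hf)
  obtain ⟨g, hg⟩ : C (f.coeff i) ∣ f := (C_dvd_iff_dvd_coeff _ _).2 fun j => by
    by_cases hj : j ∈ f.support
    · exact hdiv j hj
    · rw [notMem_support_iff.1 hj]; exact dvd_zero _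
  refine ⟨_, g, hg, fun hmem => ?_⟩
  have h1 : g.coeff i ∈ maximalIdeal V := mem_map_C_iff.1 hmem i
  have h2 := congrArg (fun p => coeff i p) hg
  simp only [coeff_C_mul] at h2
  have h3 : f.coeff i * (1 - g.coeff i) = 0 := by linear_combination h2
  rcases mul_eq_zero.1 h3 with h | h
  · exact MvPolynomial.mem_support_iff.1 hi h
  · rw [sub_eq_zero] at h
    exact (mem_maximalIdeal _).1 (h ▸ h1) isUnit_one

theorem valuationRing_gauss {σ : Type*} [((maximalIdeal V).map (C : V →+* MvPolynomial σ V)).IsPrime] :
    ValuationRing (Localization.AtPrime ((maximalIdeal V).map (C : V →+* MvPolynomial σ V))) ∧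
      ∀ x : Localization.AtPrime ((maximalIdeal V).map (C : V →+* MvPolynomial σ V)), x ≠ 0 →
        ∃ (v : V) (w : (Localization.AtPrime ((maximalIdeal V).map (C : V →+* MvPolynomial σ V)))ˣ),
          x = algebraMap V _ v * w := by
  classical
  let q := (maximalIdeal V).map (C : V →+* MvPolynomial σ V)
  let W := Localization.AtPrime q
  have key : ∀ x : W, x ≠ 0 → ∃ (v : V) (w : Wˣ), x = algebraMap V W v * w := by
    intro x hx
    obtain ⟨f, s, rfl⟩ := IsLocalization.exists_mk'_eq q.primeCompl x
    obtain ⟨v, g, hfg, hg⟩ := exists_content f fun h => hx (by rw [h, IsLocalization.mk'_zero])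
    have hu : IsUnit (IsLocalization.mk' W g s) :=
      (IsLocalization.AtPrime.isUnit_mk'_iff W q g s).2 hg
    refine ⟨v, hu.unit, ?_⟩
    rw [IsUnit.unit_spec, IsScalarTower.algebraMap_apply V (MvPolynomial σ V) W, MvPolynomial.algebraMap_eq,
      IsLocalization.mul_mk'_eq_mk'_of_mul, ← hfg]
  refine ⟨ValuationRing.iff_dvd_total.2 ⟨fun x y => ?_⟩, key⟩
  rcases eq_or_ne x 0 with rfl | hx
  · exact Or.inr (dvd_zero _)
  rcases eq_or_ne y 0 with rfl | hy
  · exact Or.inl (dvd_zero _)
  obtain ⟨v, w, rfl⟩ := key x hx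
  obtain ⟨v', w', rfl⟩ := key y hy
  rcases ValuationRing.dvd_total v v' with h | h
  · exact Or.inl (Units.mul_right_dvd.2 (Units.dvd_mul_right.2 ((algebraMap V W).map_dvd h)))
  · exact Or.inr (Units.mul_right_dvd.2 (Units.dvd_mul_right.2 ((algebraMap V W).map_dvd h)))

theorem transfer {W A B : Type u} [CommRing W] [IsDomain W] [ValuationRing W] [Algebra V W] [CommRing B] [Algebra W B]
    [Algebra.Etale W B] [CommRing A] [IsDomain A] [Algebra V A] [Algebra A B] (M : Submonoid A) [IsLocalization M B]
    (p : Ideal A) [p.IsPrime] (mB : Ideal B) [mB.IsPrime] (hp : mB.comap (algebraMap A B) = p)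
    (hmW : mB.comap (algebraMap W B) = maximalIdeal W)
    (hcomm : ∀ v, algebraMap A B (algebraMap V A v) = algebraMap W B (algebraMap V W v))
    (hinjW : Function.Injective (algebraMap V W)) (hlocW : ∀ v, IsUnit (algebraMap V W v) → IsUnit v)
    (hWc : ∀ x : W, x ≠ 0 → ∃ (v : V) (w : Wˣ), x = algebraMap V W v * w) :
    ValuationRing (Localization.AtPrime p) ∧
      Function.Injective (algebraMap V (Localization.AtPrime p)) ∧
      IsLocalHom (algebraMap V (Localization.AtPrime p)) ∧
      ∀ x : Localization.AtPrime p, x ≠ 0 →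
        ∃ (v : V) (w : (Localization.AtPrime p)ˣ), x = algebraMap V (Localization.AtPrime p) v * w := by
  obtain ⟨⟨hd, hv⟩, hinj, hlh, hval⟩ := ValEtH7.etale_local_valuation (A := W) mB hmW
  haveI := hd
  haveI := hv
  haveI := hlh
  let L := Localization.AtPrime mB
  haveI hL : IsLocalization.AtPrime L p := by
    subst hp
    exact IsLocalization.isLocalization_isLocalization_atPrime_isLocalization M (S := B) L mB
  let e : L ≃ₐ[A] Localization.AtPrime p := IsLocalization.algEquiv p.primeCompl L (Localization.AtPrime p)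
  have hVL : ∀ v, algebraMap V (Localization.AtPrime p) v = e (algebraMap W L (algebraMap V W v)) := fun v => by
    rw [IsScalarTower.algebraMap_apply V A (Localization.AtPrime p), ← e.commutes,
      IsScalarTower.algebraMap_apply A B L, hcomm, IsScalarTower.algebraMap_apply W B L]
  refine ⟨?_, ?_, ?_, fun x hx => ?_⟩
  · exact Function.Surjective.valuationRing e.toRingEquiv.toRingHom e.surjective
  · intro a b h
    rw [hVL, hVL] at h
    exact hinjW (hinj (e.injective h))
  · refine ⟨fun v hv' => hlocW v ?_⟩
    rw [hVL] at hv'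
    exact IsUnit.of_map (algebraMap W L) _ ((MulEquiv.isUnit_map e.toRingEquiv).1 hv')
  · obtain ⟨a, w, haw⟩ := hval (e.symm x) fun h => hx (e.symm.injective (h.trans (map_zero _).symm))
    have ha : a ≠ 0 := fun h => hx (e.symm.injective (by rw [haw, h, map_zero, mul_zero, map_zero]))
    obtain ⟨v, w', rfl⟩ := hWc a ha
    refine ⟨v, Units.map e.toRingEquiv.toMonoidHom (w * Units.map (algebraMap W L).toMonoidHom w'), ?_⟩
    apply e.symm.injective
    rw [haw, map_mul, map_mul, hVL, e.symm_apply_apply]
    show _ = algebraMap W L _ * e.symm (e ((w : L) * algebraMap W L (w' : W)))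
    rw [e.symm_apply_apply]
    ring

theorem generic_point_special_fibre {A : Type u} [CommRing A] [IsDomain A] [Algebra V A] [Algebra.Smooth V A]
    (p : Ideal A) [p.IsPrime] (hp : p ∈ ((maximalIdeal V).map (algebraMap V A)).minimalPrimes) :
    ValuationRing (Localization.AtPrime p) ∧
      Function.Injective (algebraMap V (Localization.AtPrime p)) ∧
      IsLocalHom (algebraMap V (Localization.AtPrime p)) ∧
      ∀ x : Localization.AtPrime p, x ≠ 0 →
        ∃ (v : V) (w : (Localization.AtPrime p)ˣ), x = algebraMap V (Localization.AtPrime p) v * w := by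
  classical
  haveI : Algebra.IsSmoothAt V p :=
    Algebra.FormallySmooth.comp V A (Localization.AtPrime p)
  obtain ⟨f, hfp, hstd⟩ := Algebra.IsSmoothAt.exists_notMem_isStandardSmooth V p
  let Af := Localization.Away f
  haveI := hstd
  obtain ⟨n, g, hgC, hget⟩ := RingHom.IsStandardSmooth.exists_etale_mvPolynomial
    ((RingHom.isStandardSmooth_algebraMap (R := V) (S := Af)).2 hstd)
  let P := MvPolynomial (Fin n) V
  letI : Algebra P Af := g.toAlgebra
  haveI : IsScalarTower V P Af := IsScalarTower.of_algebraMap_eq' hgC.symm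
  haveI : Algebra.Etale P Af := RingHom.etale_algebraMap.1 hget
  have hppr : p.IsPrime := inferInstance
  have hdisj : Disjoint (Submonoid.powers f : Set A) p :=
    Set.disjoint_left.2 fun x ⟨k, hk⟩ hx => hfp (hppr.mem_of_pow_mem k (by rw [← hk] at hx; exact hx))
  let p' : Ideal Af := p.map (algebraMap A Af)
  haveI hp' : p'.IsPrime := IsLocalization.isPrime_of_isPrime_disjoint (Submonoid.powers f) Af p ‹p.IsPrime› hdisj
  have hpc : p'.comap (algebraMap A Af) = p :=
    IsLocalization.comap_map_of_isPrime_disjoint (Submonoid.powers f) Af hppr hdisj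
  let m := maximalIdeal V
  let q : Ideal P := m.map (C : V →+* P)
  haveI hq : q.IsPrime := by
    have : q = RingHom.ker (MvPolynomial.map (σ := Fin n) (IsLocalRing.residue V)) := by
      rw [MvPolynomial.ker_map, IsLocalRing.ker_residue]
    rw [this]
    exact RingHom.ker_isPrime _
  have hmp : m.map (algebraMap V Af) ≤ p' := by
    rw [IsScalarTower.algebraMap_eq V A Af, ← Ideal.map_map]
    exact Ideal.map_mono hp.1.2
  have hqle : q ≤ p'.comap (algebraMap P Af) := by
    rw [← Ideal.map_le_iff_le_comap, Ideal.map_map,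
      show (algebraMap P Af).comp C = algebraMap V Af from (IsScalarTower.algebraMap_eq V P Af).symm]
    exact hmp
  haveI : Module.Flat P Af := Algebra.Smooth.flat P Af
  haveI : (p'.comap (algebraMap P Af)).IsPrime := Ideal.IsPrime.comap _
  have hqeq : p'.comap (algebraMap P Af) = q := by
    by_contra hne
    haveI : p'.LiesOver (p'.comap (algebraMap P Af)) := ⟨rfl⟩
    obtain ⟨Q', hlt, hQ', hQo⟩ := Ideal.exists_ideal_lt_liesOver_of_lt (S := Af) p'
      (lt_of_le_of_ne hqle (Ne.symm hne))
    have h1 : m.map (algebraMap V A) ≤ Q'.comap (algebraMap A Af) := by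
      rw [← Ideal.map_le_iff_le_comap, Ideal.map_map, ← IsScalarTower.algebraMap_eq V A Af,
        IsScalarTower.algebraMap_eq V P Af, ← Ideal.map_map, Ideal.map_le_iff_le_comap]
      exact le_of_eq hQo.1
    have h2 : p ≤ Q'.comap (algebraMap A Af) :=
      hp.2 ⟨Ideal.IsPrime.comap _, h1⟩ (hpc ▸ Ideal.comap_mono hlt.le)
    exact hlt.not_ge (Ideal.map_le_iff_le_comap.2 h2)
  let W := Localization.AtPrime q
  obtain ⟨hWv, hWc⟩ := valuationRing_gauss (V := V) (σ := Fin n)
  haveI : ValuationRing W := hWv
  -- base change to `W`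
  let B := W ⊗[P] Af
  let G := Localization.AtPrime p'
  let r : Af →ₐ[P] B := Algebra.TensorProduct.includeRight
  letI : Algebra Af B := r.toRingHom.toAlgebra
  haveI hloc : IsLocalization (Algebra.algebraMapSubmonoid Af q.primeCompl) B :=
    IsLocalization.tensorRight (S := Af) W q.primeCompl
  have hdisjB : Disjoint (Algebra.algebraMapSubmonoid Af q.primeCompl : Set Af) p' := by
    refine Set.disjoint_left.2 ?_
    rintro _ ⟨s, hs, rfl⟩ hsp
    exact hs (hqeq.le hsp)
  let mB : Ideal B := p'.map (algebraMap Af B)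
  haveI : mB.IsPrime := IsLocalization.isPrime_of_isPrime_disjoint (Algebra.algebraMapSubmonoid Af q.primeCompl) B p' hp' hdisjB
  have hmB : mB.comap (algebraMap Af B) = p' :=
    IsLocalization.comap_map_of_isPrime_disjoint (Algebra.algebraMapSubmonoid Af q.primeCompl) B hp' hdisjB
  have hcomm : (algebraMap W B).comp (algebraMap P W) = (algebraMap Af B).comp (algebraMap P Af) := by
    refine RingHom.ext fun x => ?_
    show algebraMap W B (algebraMap P W x) = r (algebraMap P Af x)
    rw [r.commutes, ← IsScalarTower.algebraMap_apply P W B]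
  have hmW : mB.comap (algebraMap W B) = maximalIdeal W := by
    refine ((IsLocalRing.le_maximalIdeal (Ideal.IsPrime.comap _ : (mB.comap (algebraMap W B)).IsPrime).ne_top).antisymm ?_)
    rw [← Localization.AtPrime.map_eq_maximalIdeal, Ideal.map_le_iff_le_comap, Ideal.comap_comap, hcomm,
      ← Ideal.comap_comap, hmB, hqeq]
  letI : Algebra A B := ((algebraMap Af B).comp (algebraMap A Af)).toAlgebra
  haveI : IsScalarTower A Af B := IsScalarTower.of_algebraMap_eq' rfl
  haveI : IsLocalization (IsLocalization.localizationLocalizationSubmodule (Submonoid.powers f)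
      (Algebra.algebraMapSubmonoid Af q.primeCompl)) B :=
    IsLocalization.localization_localization_isLocalization (Submonoid.powers f)
      (Algebra.algebraMapSubmonoid Af q.primeCompl) B
  refine transfer (W := W) (B := B) (IsLocalization.localizationLocalizationSubmodule (Submonoid.powers f)
      (Algebra.algebraMapSubmonoid Af q.primeCompl)) p mB ?_ hmW (fun v => ?_) ?_ (fun v hv => ?_) hWc
  · show mB.comap ((algebraMap Af B).comp (algebraMap A Af)) = p
    rw [← Ideal.comap_comap, hmB, hpc]
  · show algebraMap Af B (algebraMap A Af (algebraMap V A v)) = _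
    rw [← IsScalarTower.algebraMap_apply V A Af, IsScalarTower.algebraMap_apply V P Af,
      IsScalarTower.algebraMap_apply V P W]
    exact (RingHom.congr_fun hcomm _).symm
  · rw [IsScalarTower.algebraMap_eq V P W, RingHom.coe_comp]
    exact (IsLocalization.injective W q.primeCompl_le_nonZeroDivisors).comp (C_injective _ _)
  · by_contra hnv
    rw [IsScalarTower.algebraMap_apply V P W, IsLocalization.AtPrime.isUnit_to_map_iff W q] at hv
    exact hv (Ideal.mem_map_of_mem _ ((mem_maximalIdeal v).2 hnv))

end Groth.Agent.ValSmoothH7
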